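import Cfsg.Agent.Lib.GL2D.Bas
import Cfsg.Agent.Lib.Transfer.Thompson
import Cfsg.Agent.Lib.Frob.Quaternion
import Cfsg.Agent.Lib.HalfT.C
import Cfsg.Agent.Lib.Isol.ZSyl
import Cfsg.Agent.Lib.DihSyl.Basic

/-! SET: the local setting exists.  See `plans/GL2D.md`. -/

set_option autoImplicit false

namespace CfsgLib.GL2D
open Subgroup

variable {G : Type*} [Group G] [Finite G] {z : G} {B : G → Subgroup G}

omit [Finite G] in
private theorem ord2 {x : G} (xx : x * x = 1) (x1 : x ≠ 1) : orderOf x = 2 :=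
  orderOf_eq_prime (by rw [pow_two, xx]) x1

omit [Finite G] in
private theorem p2 {x : G} (xx : x * x = 1) : IsPGroup 2 (zpowers x) :=
  Tech.isPGroup_zpowers_of_pow (k := 1) (by rw [pow_one, pow_two, xx])

omit [Finite G] in
private theorem Top.no2 (h : Top z B) (M : Subgroup G) : M.index ≠ 2 := by
  intro hM
  have hn : M.Normal := normal_of_index_eq_two hM
  have hc : Nat.card (G ⧸ M) = 2 := hM
  have : IsCyclic (G ⧸ M) := isCyclic_of_prime_card hc
  have hle : _root_.commutator G ≤ M := by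
    rw [_root_.commutator_def, commutator_le]
    intro a _ b _
    rw [← QuotientGroup.eq_one_iff, ← QuotientGroup.mk'_apply, map_commutatorElement,
      commutatorElement_eq_one_iff_mul_comm]
    exact (IsCyclic.commGroup (α := G ⧸ M)).mul_comm _ _
  rw [h.perf, top_le_iff] at hle
  rw [hle, index_top] at hM
  exact absurd hM (by norm_num)

private theorem Top.z_mem (h : Top z B) (S : Sylow 2 G) : z ∈ (S : Subgroup G) := by
  obtain ⟨g, -, hg⟩ := Tech.IsSylowIn.exists_conj_mem (Tech.IsSylowIn.of_sylow_top S) (mem_top z) (p2 h.zz)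
  rwa [h.zc, mul_assoc, mul_inv_cancel, mul_one] at hg

/-- A reflection whose four-group is normalised by a Sylow subgroup. -/
private theorem Top.exists_t (h : Top z B) {r : G} (hr : Rf z r) (S : Sylow 2 G) :
    ∃ t ∈ (S : Subgroup G), Rf z t ∧ ∀ x ∈ (S : Subgroup G), Nm z t x := by
  classical
  by_cases hA : ∀ A : Subgroup (S : Subgroup G), A.Normal → IsMulCommutative A → IsCyclic A
  · exfalso
    rcases Frob.exists_gens_of_forall_normal_isCyclic S.isPGroup' hA with hc | ⟨-, a, -, -, ha, -⟩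
    · obtain ⟨g, -, hg⟩ := Tech.IsSylowIn.exists_conj_mem (Tech.IsSylowIn.of_sylow_top S) (mem_top r) (p2 hr.1)
      have r' := h.toRG.rf_cj hr g
      exact r'.2.2 (Transfer.eq_of_orderOf_eq_two_of_isCyclic hc hg (h.z_mem S) (ord2 r'.1 r'.2.1)
        (ord2 h.zz h.z1))
    · have hQ : (zpowers (a : G)).relIndex (S : Subgroup G) = 2 := by
        refine Eq.trans ?_ ha
        rw [relIndex]
        congr 1
        ext x
        simp only [mem_subgroupOf, mem_zpowers_iff]
        exact exists_congr fun k => by rw [← Subtype.coe_inj, coe_zpow]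
      obtain ⟨g, hg⟩ := Transfer.conj_of_cyclic_index_two h.no2 S.not_dvd_index hQ inferInstance
        (ord2 h.zz h.z1) (ord2 hr.1 hr.2.1)
      rw [h.zc, mul_assoc, mul_inv_cancel, mul_one] at hg
      exact hr.2.2 hg.symm
  push Not at hA
  obtain ⟨A, hn, hab, hc⟩ := hA
  obtain ⟨E, En, Ec, Ee⟩ := HalfT.exists_normal_sq S.isPGroup' hab hc
  have e2 : ∀ x ∈ E, (x : G) * x = 1 := fun x hx => by
    have := congrArg Subtype.val (Ee x hx)
    simpa [pow_two] using this
  obtain ⟨t, tE, t1, tz⟩ : ∃ t ∈ E, (t : G) ≠ 1 ∧ (t : G) ≠ z := by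
    by_contra hh
    push Not at hh
    have : Nat.card E ≤ Nat.card (({1, z} : Finset G) : Set G) := by
      refine Nat.card_le_card_of_injective (fun x => ⟨(x.1 : G), ?_⟩) ?_
      · by_cases h1 : (x.1 : G) = 1
        · simp [h1]
        · simp [hh x.1 x.2 h1]
      · intro x y e
        exact Subtype.ext (Subtype.ext (Subtype.mk.inj e))
    rw [Ec, Nat.card_coe_set_eq, Set.ncard_coe_finset] at this
    have := this.trans (Finset.card_le_two (a := (1 : G)) (b := z))
    omega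
  have rt : Rf z (t : G) := ⟨e2 t tE, t1, tz⟩
  refine ⟨t, t.2, rt, fun x hx => ?_⟩
  have m1 := En.conj_mem t tE ⟨x, hx⟩
  have rx := h.toRG.rf_cj rt x
  have a1 := e2 _ (E.mul_mem m1 tE)
  have cm : x * t * x⁻¹ * t = t * (x * t * x⁻¹) := by
    have b1 : x * t * x⁻¹ * t * (x * t * x⁻¹ * t) = 1 := by simpa using a1
    calc x * t * x⁻¹ * t = (x * t * x⁻¹ * t)⁻¹ := (eq_inv_of_mul_eq_one_left b1)
      _ = (t : G)⁻¹ * (x * t * x⁻¹)⁻¹ := mul_inv_rev _ _
      _ = t * (x * t * x⁻¹) := by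
        rw [inv_eq_of_mul_eq_one_left rt.1, inv_eq_of_mul_eq_one_left rx.1]
  rcases h.toRG.inv_cen rt cm rx.1 with e | e | e | e
  · exact absurd e rx.2.1
  · exact absurd e rx.2.2
  · exact Or.inl e
  · exact Or.inr e

/-- By the `Z*`-theorem a conjugate of `t` swaps `t` and `z t`. -/
private theorem Top.exists_swap (h : Top z B) {t : G} (rt : Rf z t) :
    ∃ r, Rf z r ∧ r * t * r⁻¹ = z * t := by
  have := h.simp
  set π := QuotientGroup.mk' (center G) with hπ
  have πs : Function.Surjective π := QuotientGroup.mk'_surjective _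
  have πk : ∀ x, π x = 1 ↔ x ∈ center G := fun x => QuotientGroup.eq_one_iff x
  have t1 : π t ≠ 1 := fun e => h.nc rt ((πk t).1 e)
  have to2 : orderOf (π t) = 2 := ord2 (by rw [← map_mul, rt.1, map_one]) t1
  have ni : ¬ Cfsg.IsIsolatedInvolution (π t) := by
    intro hi
    have hO : Cfsg.pPrimeCore 2 (G ⧸ center G) = ⊥ := by
      rcases (inferInstance : (Cfsg.pPrimeCore 2 (G ⧸ center G)).Normal).eq_bot_or_eq_top with e | e
      · exact e
      · exfalso
        apply Core.not_dvd_card_pPrimeCore Nat.prime_two (G ⧸ center G)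
        rw [e, card_top, ← to2]
        exact orderOf_dvd_natCard _
    have tc : π t ∈ center (G ⧸ center G) := by
      rw [mem_center_iff]
      intro q
      have := ZStar.zstar hi q
      rw [hO, mem_bot] at this
      calc q * π t = (π t * q * (π t)⁻¹ * q⁻¹) * (q * π t) := by rw [this, one_mul]
        _ = π t * q := by group
    have ct : center (G ⧸ center G) = ⊤ := by
      rcases (inferInstance : (center (G ⧸ center G)).Normal).eq_bot_or_eq_top with e | e
      · rw [e, mem_bot] at tc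
        exact absurd tc t1
      · exact e
    have hle : _root_.commutator G ≤ center G := by
      rw [_root_.commutator_def, commutator_le]
      intro a _ b _
      rw [← πk, map_commutatorElement, commutatorElement_eq_one_iff_mul_comm]
      exact mem_center_iff.1 (ct ▸ mem_top (π b)) _
    exact h.nc rt (hle (h.perf ▸ mem_top t))
  have : ∃ g : G, Commute (π t) (π (g * t * g⁻¹)) ∧ π (g * t * g⁻¹) ≠ π t := by
    by_contra hh
    push Not at hh
    refine ni ⟨to2, fun q hq => ?_⟩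
    obtain ⟨g, rfl⟩ := πs q
    simpa using hh g (by simpa using hq)
  obtain ⟨g, gc, gn⟩ := this
  set r := g * t * g⁻¹ with hr
  have rr : Rf z r := h.toRG.rf_cj rt g
  refine ⟨r, rr, ?_⟩
  have yc : r * t * r⁻¹ * t ∈ center G := by
    rw [← πk, map_mul, map_mul, map_mul, ← gc.eq, map_inv, mul_inv_cancel_right, ← map_mul, rt.1, map_one]
  have r' := h.toRG.rf_cj rt r
  have cm : r * t * r⁻¹ * t = t * (r * t * r⁻¹) := by
    have := mem_center_iff.1 yc t
    calc r * t * r⁻¹ * t = t * (t * (r * t * r⁻¹ * t)) := by rw [← mul_assoc, rt.1, one_mul]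
      _ = t * (r * t * r⁻¹ * (t * t)) := by rw [this, mul_assoc _ t t]
      _ = t * (r * t * r⁻¹) := by rw [rt.1, mul_one]
  rcases h.toRG.inv_cen rt cm r'.1 with e | e | e | e
  · exact absurd e r'.2.1
  · exact absurd e r'.2.2
  · exfalso
    rcases h.toRG.inv_cen rt (mul_inv_eq_iff_eq_mul.1 e) rr.1 with e' | e' | e' | e'
    · exact rr.2.1 e'
    · exact rr.2.2 e'
    · exact gn (by rw [e'])
    · refine gn ?_
      rw [e', map_mul, (πk z).2 (mem_center_iff.2 h.zc), one_mul]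
  · exact e

/-- The normaliser of `⟨t, z⟩`. -/
private def setNN (zz : z * z = 1) (zc : ∀ g, g * z = z * g) (t : G) : Subgroup G where
  carrier := {x | Nm z t x}
  one_mem' := Or.inl (by simp)
  mul_mem' := by
    intro a b ha hb
    have e : a * b * t * (a * b)⁻¹ = a * (b * t * b⁻¹) * a⁻¹ := by group
    have e2 : a * (z * t) * a⁻¹ = z * (a * t * a⁻¹) := by rw [← mul_assoc, zc a]; group
    rcases hb with hb | hb
    · rcases ha with ha | ha
      · exact Or.inl (by rw [e, hb, ha])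
      · exact Or.inr (by rw [e, hb, ha])
    · rcases ha with ha | ha
      · exact Or.inr (by rw [e, hb, e2, ha])
      · exact Or.inl (by rw [e, hb, e2, ha, ← mul_assoc, zz, one_mul])
  inv_mem' := by
    intro a ha
    rcases ha with ha | ha
    · refine Or.inl ?_
      calc a⁻¹ * t * a⁻¹⁻¹ = a⁻¹ * (a * t * a⁻¹) * a := by rw [ha, inv_inv]
        _ = t := by group
    · refine Or.inr ?_
      calc a⁻¹ * t * a⁻¹⁻¹ = a⁻¹ * (z * (z * t)) * a := by rw [← mul_assoc z, zz, one_mul, inv_inv]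
        _ = a⁻¹ * (z * (a * t * a⁻¹)) * a := by rw [ha]
        _ = z * t := by rw [← mul_assoc, zc a⁻¹]; group

private theorem Top.exists_s (h : Top z B) {t : G} (rt : Rf z t) (S : Sylow 2 G)
    (nm : ∀ x ∈ (S : Subgroup G), Nm z t x) : ∃ s ∈ (S : Subgroup G), Rf z s ∧ s * t = z * (t * s) := by
  obtain ⟨r, rr, e⟩ := h.exists_swap rt
  obtain ⟨n, hn, hs⟩ := Tech.IsSylowIn.exists_conj_mem
    (Tech.IsSylowIn.of_sylow S (H := setNN h.zz h.zc t) nm) (x := r) (Or.inr e) (p2 rr.1)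
  refine ⟨_, hs, h.toRG.rf_cj rr n, ?_⟩
  have zc : ∀ g x : G, g * (z * x) * g⁻¹ = z * (g * x * g⁻¹) := fun g x => by
    rw [← mul_assoc, h.zc g]; group
  have key : n * r * n⁻¹ * t * (n * r * n⁻¹)⁻¹ = z * t := by
    have e0 : n * r * n⁻¹ * t * (n * r * n⁻¹)⁻¹ = n * (r * (n⁻¹ * t * n⁻¹⁻¹) * r⁻¹) * n⁻¹ := by group
    have back : t = n * (n⁻¹ * t * n⁻¹⁻¹) * n⁻¹ := by group
    rcases (setNN h.zz h.zc t).inv_mem hn with e1 | e1
    · rw [e1] at back
      rw [e0, e1, e, zc, ← back]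
    · rw [e1, zc] at back
      rw [e0, e1, zc r, e, ← mul_assoc z, h.zz, one_mul]
      calc n * t * n⁻¹ = z * (z * (n * t * n⁻¹)) := by rw [← mul_assoc z, h.zz, one_mul]
        _ = z * t := by rw [← back]
  rw [← mul_assoc z, ← key]
  group

private theorem Top.fus (h : Top z B) {t s : G} (rt : Rf z t) (S : Sylow 2 G)
    (nm : ∀ x ∈ (S : Subgroup G), Nm z t x) (sS : s ∈ (S : Subgroup G)) (st : s * t = z * (t * s))
    {r : G} (hr : Rf z r) : ∃ g, g * t * g⁻¹ = r := by
  have tz : z * t ≠ t := fun e => h.z1 (mul_eq_right.1 e)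
  have st' : s * t * s⁻¹ = z * t := by rw [st]; group
  have hQ : (RR S t).relIndex (S : Subgroup G) = 2 := by
    rw [relIndex, index_eq_two_iff]
    refine ⟨⟨s, sS⟩, fun b => ?_⟩
    simp only [mem_subgroupOf, mem_RR, coe_mul]
    have e : (b : G) * s * t * ((b : G) * s)⁻¹ = z * (b * t * (b : G)⁻¹) := by
      calc (b : G) * s * t * ((b : G) * s)⁻¹ = b * (s * t * s⁻¹) * (b : G)⁻¹ := by group
        _ = z * (b * t * (b : G)⁻¹) := by rw [st', ← mul_assoc, h.zc b]; group
    rcases nm b b.2 with e1 | e1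
    · refine Or.inr ⟨⟨b.2, mul_inv_eq_iff_eq_mul.1 e1⟩, fun hh => tz ?_⟩
      rw [← e1, ← e, e1]
      exact mul_inv_eq_iff_eq_mul.2 hh.2
    · refine Or.inl ⟨⟨mul_mem b.2 sS, mul_inv_eq_iff_eq_mul.1 ?_⟩, fun hh => tz ?_⟩
      · rw [e, e1, ← mul_assoc, h.zz, one_mul]
      · rw [← e1]
        exact mul_inv_eq_iff_eq_mul.2 hh.2
  obtain ⟨g, hg⟩ := Transfer.exists_conj_mem_of_no_index_two h.no2 S.not_dvd_index hQ (ord2 hr.1 hr.2.1)
  have r' := h.toRG.rf_cj hr g
  rcases h.toRG.inv_cen rt (mem_RR.1 hg).2 r'.1 with e | e | e | e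
  · exact absurd e r'.2.1
  · exact absurd e r'.2.2
  · exact ⟨g⁻¹, by rw [← e]; group⟩
  · refine ⟨g⁻¹ * s, ?_⟩
    calc g⁻¹ * s * t * (g⁻¹ * s)⁻¹ = g⁻¹ * (s * t * s⁻¹) * g := by group
      _ = r := by rw [st', ← e]; group

omit [Finite G] in
/-- The diagonal element `b · s b s` centralises `t` and `s`. -/
private theorem RG.diag (h : RG z B) {t s b : G} (rt : Rf z t) (rs : Rf z s) (st : s * t = z * (t * s))
    (hb : b ∈ B t) :
    b * (s * b * s) * t = t * (b * (s * b * s)) ∧ b * (s * b * s) * s = s * (b * (s * b * s)) ∧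
      orderOf (b * (s * b * s)) = orderOf b ∧
      ∀ k : ℕ, (b * (s * b * s)) ^ k * (b ^ k)⁻¹ ∈ B (z * t) := by
  have hc := (h.swap rt rs.1 st).1 hb
  have cm : Commute b (s * b * s) := h.comm rt hb hc
  have ct : s * b * s * t = t * (s * b * s) := by
    have := h.le (h.rf_z rt) hc
    rw [← mul_assoc _ z t, h.zc, mul_assoc z, mul_assoc z] at this
    exact mul_left_cancel this
  have pw : ∀ k : ℕ, (s * b * s) ^ k = s * b ^ k * s := fun k => by
    have := conj_pow (a := s) (b := b) (i := k)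
    rwa [inv_eq_of_mul_eq_one_left rs.1] at this
  refine ⟨?_, ?_, ?_, fun k => ?_⟩
  · rw [mul_assoc b, ct, ← mul_assoc, h.le rt hb, mul_assoc]
  · calc b * (s * b * s) * s = b * s * b * (s * s) := by simp only [mul_assoc]
      _ = s * s * (b * s * b) := by rw [rs.1, mul_one, one_mul]
      _ = s * (s * b * s * b) := by simp only [mul_assoc]
      _ = s * (b * (s * b * s)) := by rw [cm.eq]
  · rw [orderOf_eq_orderOf_iff]
    intro n
    rw [cm.mul_pow]
    constructor
    · intro e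
      refine h.dis rt (pow_mem hb n) ?_
      rw [eq_inv_of_mul_eq_one_left e]
      exact inv_mem (pow_mem hc n)
    · intro e
      rw [pw, e, mul_one, one_mul, rs.1]
  · rw [cm.eq, cm.symm.mul_pow, mul_inv_cancel_right]
    exact pow_mem hc k

private theorem Top.two (h : Top z B) {t s : G} (rt : Rf z t) (rs : Rf z s) (st : s * t = z * (t * s))
    (fus : ∀ {r}, Rf z r → ∃ g, g * t * g⁻¹ = r) {r : G} (hr : Rf z r) : IsPGroup 2 (B r) := by
  have R := h.toRG
  rw [IsPGroup.iff_card]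
  refine ⟨_, Nat.eq_prime_pow_of_unique_prime_dvd Nat.card_pos.ne' fun {p} pp pd => ?_⟩
  have := Fact.mk pp
  by_contra p2
  obtain ⟨⟨a, aB⟩, ao⟩ := exists_prime_orderOf_dvd_card' p pd
  have ao' : orderOf a = p := by rw [← ao]; exact orderOf_coe (⟨a, aB⟩ : B r)
  have tr : ∀ {u}, Rf z u → ∃ b ∈ B u, orderOf b = p := fun {u} hu => by
    obtain ⟨g, hg⟩ := fus hr
    obtain ⟨g', hg'⟩ := fus hu
    refine ⟨g' * g⁻¹ * a * (g' * g⁻¹)⁻¹, ?_, ?_⟩
    · have := R.cj (g' * g⁻¹) hr aB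
      rwa [show g' * g⁻¹ * r * (g' * g⁻¹)⁻¹ = u by rw [← hg, ← hg']; group] at this
    · rw [← ao']
      exact (MulAut.conj (g' * g⁻¹)).orderOf_eq a
  obtain ⟨b, bB, bo⟩ := tr rt
  obtain ⟨c, cB, co⟩ := tr rs
  have ts : t * s = z * (s * t) := by rw [st, ← mul_assoc, h.zz, one_mul]
  obtain ⟨b1, b2, b3, b4⟩ := R.diag rt rs st bB
  obtain ⟨c1, c2, c3, -⟩ := R.diag rs rt ts cB
  set F : Subgroup G := centralizer {t} ⊓ centralizer {s} with hF
  have mF : ∀ x, x ∈ F ↔ x * t = t * x ∧ x * s = s * x := fun x => by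
    simp [hF, mem_centralizer_iff, eq_comm]
  have pz : ∀ x : G, orderOf x = p → IsPGroup p (zpowers x) := fun x hx =>
    Tech.isPGroup_zpowers_of_pow (k := 1) (by rw [pow_one, ← hx, pow_orderOf_eq_one])
  obtain ⟨P, hP, lP⟩ := Tech.exists_isSylowIn_ge (pz _ (b3.trans bo)) (zpowers_le.2 ((mF _).2 ⟨b1, b2⟩))
  obtain ⟨f, fF, hf⟩ := hP.exists_conj_mem ((mF _).2 ⟨c2, c1⟩) (pz _ (c3.trans co))
  obtain ⟨ft, fs⟩ := (mF f).1 fF
  have Pc : IsCyclic P := by
    refine R.cyc rt pp p2 (hP.1.trans inf_le_left) hP.pgroup ?_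
    rw [eq_bot_iff]
    rintro x ⟨xP, xB⟩
    have := (R.swap rt rs.1 st).1 xB
    rw [← ((mF x).1 (hP.1 xP)).2, mul_assoc, rs.1, mul_one] at this
    exact R.dis rt xB this
  have c'B : f * c * f⁻¹ ∈ B s := R.nrm rs fs cB
  have e : f * (c * (t * c * t)) * f⁻¹ = f * c * f⁻¹ * (t * (f * c * f⁻¹) * t) := by
    have ft' : f⁻¹ * t = t * f⁻¹ := (show Commute f t from ft).inv_left.eq
    calc f * (c * (t * c * t)) * f⁻¹ = f * c * f⁻¹ * (f * t) * c * (t * f⁻¹) := by group
      _ = f * c * f⁻¹ * (t * (f * c * f⁻¹) * t) := by rw [ft, ← ft']; group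
  obtain ⟨d1, d2, d3, d4⟩ := R.diag rs rt ts c'B
  have yo : orderOf (f * c * f⁻¹ * (t * (f * c * f⁻¹) * t)) = p := by
    rw [d3, ← co]
    exact (MulAut.conj f).orderOf_eq c
  rw [e] at hf
  have hy : f * c * f⁻¹ * (t * (f * c * f⁻¹) * t) ∈ zpowers (b * (s * b * s)) := by
    obtain ⟨u, hu⟩ := (isCyclic_iff_exists_zpowers_eq_top (α := P)).1 Pc
    have key : ∀ w ∈ P, w ∈ zpowers (u : G) := fun w hw => by
      obtain ⟨k, hk⟩ := (hu ▸ mem_top (⟨w, hw⟩ : P) : (⟨w, hw⟩ : P) ∈ zpowers u)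
      exact ⟨k, congrArg Subtype.val hk⟩
    exact DihSyl.mem_zpowers_of_orderOf_dvd (isOfFinOrder_of_finite _) (key _ hf) (key _ (lP (mem_zpowers _)))
      (by rw [yo, b3, bo])
  obtain ⟨k, hk⟩ := (mem_powers_iff_mem_zpowers.2 hy)
  have k4 := b4 k
  have d5 := d4 1
  simp only [pow_one] at hk d5
  rw [hk] at k4
  exact p2 (yo ▸ R.int1 rt rs st d2 d1 (pow_mem bB k) k4 c'B d5 (yo ▸ pp))

theorem Top.exists_ls (h : Top z B) {r : G} (hr : Rf z r) : ∃ (S : Sylow 2 G) (t s : G), LS z B S t s := by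
  obtain ⟨S⟩ : Nonempty (Sylow 2 G) := inferInstance
  obtain ⟨t, tS, rt, nm⟩ := h.exists_t hr S
  obtain ⟨s, sS, rs, st⟩ := h.exists_s rt S nm
  exact ⟨S, t, s, h, tS, sS, rt, rs, st, nm, h.fus rt S nm sS st,
    h.two rt rs st (h.fus rt S nm sS st)⟩

end CfsgLib.GL2D
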